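import Cfsg.Agent.H0.TC
set_option maxRecDepth 100000
namespace H0.TCM11p0
open H0
noncomputable def r0 : TC.WTr := (.node (.node (.node (.node (.node (.node (.leaf [0] 0 0 false) (.leaf [3, 6, 12, 3, 11, 3] 36 5 true)) (.leaf [5, 5, 5] 28 0 true)) (.node (.node (.leaf [1] 1 1 false) (.leaf [0, 11, 0] 44 0 true)) (.leaf [9] 8 0 false))) (.node (.node (.node (.leaf [1, 3] 39 0 false) (.leaf [13] 12 0 false)) (.leaf [7] 6 0 false)) (.node (.leaf [5] 4 0 false) (.leaf [7, 3, 5, 11, 3, 9] 35 5 false)))) (.node (.node (.node (.node (.leaf [5, 0, 9, 5, 0, 9] 46 4 true) (.leaf [12, 11, 13] 20 3 true)) (.leaf [7] 6 0 false)) (.node (.leaf [6, 8, 8, 3, 10, 4] 35 6 true) (.leaf [3, 4, 3, 4, 3, 5, 3] 30 0 true))) (.node (.node (.node (.leaf [1] 1 1 false) (.leaf [3, 5, 3, 6, 9, 3] 37 3 true)) (.leaf [8, 13, 9] 24 1 false)) (.node (.leaf [5] 4 0 false) (.leaf [11] 10 0 false)))))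 (.node (.node (.node (.node (.node (.leaf [1, 0, 1, 1, 0, 5, 0, 2, 2, 0, 2, 0, 2] 40 7 false) (.leaf [10] 10 1 false)) (.leaf [4] 4 1 false)) (.node (.node (.leaf [3] 3 0 false) (.leaf [7, 3, 11, 3, 10, 3] 36 5 false)) (.leaf [3, 0, 3, 9, 5, 0, 4] 47 6 false))) (.node (.node (.node (.leaf [0, 5, 0, 2, 2, 0, 2, 0, 2, 0, 1, 0, 1] 40 11 false) (.leaf [9, 6, 8] 24 0 true)) (.leaf [6] 6 1 false)) (.node (.leaf [8, 0, 4, 0, 8, 0] 46 5 false) (.leaf [8] 8 1 false)))) (.node (.node (.node (.node (.leaf [2] 1 0 false) (.leaf [3, 9, 9, 7, 3, 5] 35 2 false)) (.leaf [3, 13, 9, 3, 9] 34 1 true)) (.node (.leaf [8, 12, 3, 7, 8] 34 0 false) (.leaf [8] 8 1 false))) (.node (.node (.node (.leaf [5, 0, 8, 3, 5, 13, 0, 4] 48 2 false) (.leaf [12] 12 1 false)) (.leaf [3, 4, 3, 13, 3, 8] 37 6 false)) (.node (.leaf [4] 4 1 false) (.leaf [1, 0, 3, 11, 9, 3, 0, 2] 51 2 false))))))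
noncomputable def r1 : TC.WTr := (.node (.node (.node (.node (.node (.node (.leaf [9, 5, 0, 9, 0, 5] 46 6 true) (.leaf [11] 10 0 false)) (.leaf [13, 0, 4, 2, 5, 0, 8, 3] 48 7 false)) (.node (.node (.leaf [1] 1 1 false) (.leaf [0, 4, 2, 5, 0, 8, 3, 5] 48 8 false)) (.leaf [6, 10] 23 1 true))) (.node (.node (.node (.leaf [4, 0, 13, 3, 13, 5, 0, 9] 50 2 false) (.leaf [0, 10, 0] 44 3 false)) (.leaf [7] 6 0 false)) (.node (.leaf [1, 0, 4, 12, 3, 13, 0, 2] 49 2 false) (.leaf [8] 8 1 false)))) (.node (.node (.node (.node (.leaf [4, 0, 8, 0, 4, 8] 46 0 false) (.leaf [3, 12, 8, 2, 4] 45 1 true)) (.leaf [4] 29 0 true)) (.node (.leaf [4, 3, 5, 3, 4, 3, 5, 3, 4, 3, 5] 32 0 false) (.leaf [8, 8, 8] 22 0 false))) (.node (.node (.node (.leaf [2, 3] 39 1 true) (.leaf [13] 12 0 false)) (.leaf [7, 7, 7] 21 0 true)) (.node (.leaf [5] 4 0 false) (.leaf [0, 12, 0] 44 1 false))))) (.node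 (.node (.node (.node (.node (.leaf [3, 9, 5, 0, 4, 8, 3] 47 0 false) (.leaf [7, 9] 23 2 false)) (.leaf [4] 4 1 false)) (.node (.node (.leaf [2, 2] 39 0 true) (.leaf [9, 7, 8] 24 3 false)) (.leaf [7, 9, 6, 8, 7, 9, 6] 26 1 false))) (.node (.node (.node (.leaf [2] 1 0 false) (.leaf [3, 13, 0, 2, 4, 1, 0, 4] 49 6 false)) (.leaf [5] 29 1 false)) (.node (.leaf [3, 4, 3, 5, 3, 8, 3] 30 2 true) (.leaf [8] 8 1 false)))) (.node (.node (.node (.node (.leaf [9, 13, 3, 10, 5] 45 0 false) (.leaf [10] 10 1 false)) (.leaf [10, 8] 23 2 true)) (.node (.leaf [3] 3 0 false) (.leaf [9, 9, 9] 22 0 true))) (.node (.node (.node (.leaf [1] 1 1 false) (.leaf [3, 10, 5, 1, 9] 45 2 false)) (.leaf [6] 6 1 false)) (.node (.leaf [3, 6, 9, 3, 12, 3] 37 5 true) (.leaf [4, 3, 6, 8, 8, 3] 35 4 true))))))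
noncomputable def tS : Tr := (.leaf (nat_lit 0xffad9cd5cc18b9a073cbccc5f1e6f0ff51a04fadc5ad2ebf88188a9775e6ffacbaa3b5a386a92e188875b68da2ff39a2325c460c333e493e81822726ff9868db3e534822afdb0c9833ad3bff5e30ad65382583220cdb3c263133ff3c6154d03154b9a281980c232448ff5b502f24453a3a2f2f2423300c45ffaf495d61972b3f402a292f0c304fff221722171d3131321c1b1a191800ff0000000000000000000000160b0c))
noncomputable def tJ : Tr := (.leaf (nat_lit 0x90520395433340104030400010293015500010240190202480141017200200344040000310070041502330020170220030001400321071201002020101011072200020000000070300010101000000070066666666666010))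
noncomputable def tQ : Tr := (.leaf (nat_lit 0x0))
noncomputable def tR : TC.WTr := (.node r0 r1)
def hl : List ℕ := [3, 4, 5, 5, 4, 6, 7, 7, 6, 8, 9, 9, 8, 10, 11, 11, 10, 12, 13, 13, 12]
def B : List (List ℕ) := [[0, 0], [1, 2], [2, 1], [3, 3], [4, 5], [5, 4], [6, 7], [7, 6], [8, 9], [9, 8], [10, 11], [11, 10], [12, 13], [13, 12], [10, 10, 10, 10], [12, 12, 12, 12], [10, 12, 10, 12, 10, 12, 10, 12], [10, 12, 11, 13, 10, 12, 11, 13], [10, 13, 10, 13, 10, 13, 10, 13], [10, 10, 13, 13], [10, 12, 10, 13], [6, 6, 6, 6], [8, 8, 8, 8], [7, 9, 11], [9, 7, 8, 13], [6, 8, 6, 8, 6, 8, 6, 8], [6, 8, 7, 9, 6, 8, 7, 9], [6, 9, 6, 9, 6, 9, 6, 9], [4, 4, 4, 4], [5, 7], [3, 4, 3, 5, 3, 5, 3, 9], [3, 4, 3, 4, 3, 4, 3, 4, 3, 4, 3, 4, 3, 4, 3, 4], [3, 4, 3, 5, 3, 4, 3, 5, 3, 4, 3, 5], [3, 5, 3, 5, 3, 5, 3, 5, 3, 5, 3, 5, 3, 5, 3, 5], [3, 8, 12, 3, 7, 8], [3, 5, 11, 3, 9, 9, 7],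 [3, 11, 3, 10, 3, 13, 7], [3, 4, 3, 13, 3, 8, 7], [1, 1, 1, 1], [1, 1, 3], [0, 2, 2, 0, 2, 0, 2, 0, 1, 0, 1, 1, 0, 5], [0, 1, 0, 1, 0, 1, 0, 1, 0, 1, 0, 1, 0, 1, 0, 1, 0, 1, 0, 1, 0, 1], [0, 1, 0, 2, 0, 1, 0, 2, 0, 1, 0, 2, 0, 1, 0, 2, 0, 1, 0, 2, 0, 1, 0, 2], [0, 2, 0, 2, 0, 2, 0, 2, 0, 2, 0, 2, 0, 2, 0, 2, 0, 2, 0, 2, 0, 2], [0, 10, 0, 12], [1, 9, 13, 3, 10, 5], [0, 4, 0, 8, 0, 4, 8], [0, 3, 9, 5, 0, 4, 8, 3], [0, 4, 2, 5, 0, 8, 3, 5, 13], [0, 2, 4, 1, 0, 4, 12, 3, 13], [0, 9, 1, 4, 0, 13, 3, 13, 5], [0, 2, 10, 1, 0, 3, 11, 9, 3]]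
def subs : List (List ℕ) := [[3], [4], [5], [6], [7], [8], [9], [10], [11], [12], [13]]
def ex : List (List ℕ) := []
def inv (x : ℕ) : ℕ := [0, 2, 1, 3, 5, 4, 7, 6, 9, 8, 11, 10, 13, 12].getD x 0
noncomputable def rS : ℕ → ℕ := rowOf tS (nat_lit 7) (nat_lit 127) (nat_lit 120) (nat_lit 1329227995784915872903807060280344575)
noncomputable def rJ : ℕ → ℕ := rowOf tJ (nat_lit 7) (nat_lit 127) (nat_lit 64) (nat_lit 18446744073709551615)
noncomputable def C : TC.Cfg where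
  S := look rS (nat_lit 8) (nat_lit 255)
  J := look rJ (nat_lit 4) (nat_lit 15)
  Q := lookQ tQ (nat_lit 7) (nat_lit 1) (nat_lit 1)
  R := tR.get
  hl := fun x => hl.contains x
  n := (nat_lit 11)
  M := (nat_lit 11)
  top := (nat_lit 242)
  nl := (nat_lit 14)
  need := (nat_lit 14)
  nr := (nat_lit 6)
theorem k0 : TC.chkRange C 0 1 = true := by decide +kernel
theorem rows0 : ∀ c < (0 + 1) * 64, c < C.M → TC.chkRow C c = true :=
  TC.rows_step (TC.rows_zero C) k0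
theorem main {G : Type*} [Group G] (g : ℕ → G) (hB : ∀ r ∈ B, ev g r = 1) (H : Subgroup G)
    (hH : ∀ w ∈ subs, ev g w ∈ H) :
    H.relIndex (Subgroup.closure (g '' {x | x < 14})) ≠ 0 ∧
      H.relIndex (Subgroup.closure (g '' {x | x < 14})) ≤ 11 :=
  TC.index_le C B subs ex inv hl tR.hint rfl (by decide +kernel) (by decide +kernel)
    (TC.rows_done rows0 (by decide +kernel)) g hB H hH
end H0.TCM11p0
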